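import Groth.Agent.ResProp.EF.K929.LocFG
import Groth.Agent.ResProp.EF.K353.Defs
import Mathlib.Algebra.Category.ModuleCat.ChangeOfRings

/-!
# `LocFin (vst A)` and finitely generated cohomology over `R_(q)`
-/

set_option autoImplicit false
set_option linter.dupNamespace false
set_option linter.style.haveILetI false

open CategoryTheory CategoryTheory.Limits Opposite HomologicalComplex

namespace Groth.Agent.ResProp.EF.K929

open EF56 K784.BC K784.PM K741.RP Groth.Agent.ResProp.EF.K294

universe w v u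

theorem DirFG.locFin {R : Type u} [CommRing R] {C : Type v} [Category.{w} C] [Abelian C] {F : C ⥤ ModuleCat.{u} R}
    (h : DirFG F) : K353.LocFin F := fun N s => by
  obtain ⟨N', i, h1, h2, h3⟩ := h N s
  exact ⟨N', i, h1, h2, fun x hx => h3 x hx⟩

/-- **LocFin for comodules** -/
theorem locFin_vst {A : NFᵒᵖ ⥤ CommRingCat.{u}} [Fact (GR A)] [IsNoetherianRing (A.obj (op ⟨0⟩))] :
    K353.LocFin (vst A) := (dirFG_vst (A := A)).locFin

section Fg

variable {R R' : Type u} [CommRing R] [CommRing R'] (f : R →+* R') (q : ℕ)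

/-- every element of `R'` is a fraction `r / n`, `n` prime to `q` -/
def FracQ : Prop := ∀ r' : R', ∃ (n : ℕ) (r : R), n.Coprime q ∧ (n : R') * r' = f r

variable {f q}

theorem FracQ.mem_span (hf : FracQ f q) {M : Type*} [AddCommGroup M] [Module R M] [Module R' M]
    (hc : ∀ (r : R) (m : M), r • m = f r • m) (s : Set M) {x : M} (hx : x ∈ Submodule.span R' s) :
    ∃ n : ℕ, n.Coprime q ∧ (n : ℤ) • x ∈ Submodule.span R s := by
  induction hx using Submodule.span_induction with
  | mem x h => exact ⟨1, Nat.coprime_one_left q, by simpa using Submodule.subset_span h⟩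
  | zero => exact ⟨1, Nat.coprime_one_left q, by simp⟩
  | add x y _ _ hx hy =>
    obtain ⟨n, hn, h1⟩ := hx
    obtain ⟨m, hm, h2⟩ := hy
    refine ⟨n * m, Nat.Coprime.mul_left hn hm, ?_⟩
    rw [smul_add, Nat.cast_mul]
    refine Submodule.add_mem _ ?_ ?_
    · rw [mul_comm, mul_smul]
      exact (Submodule.span R s).toAddSubgroup.zsmul_mem h1 _
    · rw [mul_smul]
      exact (Submodule.span R s).toAddSubgroup.zsmul_mem h2 _
  | smul r' x _ hx =>
    obtain ⟨n, hn, h1⟩ := hx
    obtain ⟨m, r, hm, h2⟩ := hf r'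
    refine ⟨m * n, Nat.Coprime.mul_left hm hn, ?_⟩
    have e : ((m * n : ℕ) : ℤ) • (r' • x) = r • ((n : ℤ) • x) := by
      rw [hc, ← h2, Nat.cast_mul, mul_smul, smul_comm (n : ℤ) r' x, mul_smul, natCast_zsmul, Nat.cast_smul_eq_nsmul,
        Nat.cast_smul_eq_nsmul]
    rw [e]
    exact Submodule.smul_mem _ _ h1

theorem FracQ.fgCoh_of_linearEquiv (hf : FracQ f q) (K : CM R) (H : ℤ → Type*) [∀ i, AddCommGroup (H i)]
    [∀ i, Module R' (H i)] [∀ i, Module.Finite R' (H i)] (e : ∀ i, K.homology i ≃+ H i)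
    (he : ∀ (i : ℤ) (r : R) (x : K.homology i), e i (r • x) = f r • e i x) : K353.FgCoh q K := by
  classical
  intro i
  letI : Module R (H i) := Module.compHom _ f
  let E : K.homology i ≃ₗ[R] H i := { e i with map_smul' := he i }
  obtain ⟨s, hs⟩ := Module.Finite.fg_top (R := R') (M := H i)
  refine ⟨s.image E.symm, fun x => ?_⟩
  obtain ⟨n, hn, h1⟩ := hf.mem_span (M := H i) (fun r m => rfl) (s : Set (H i)) (x := E x) (by rw [hs]; trivial)
  refine ⟨n, hn, ?_⟩
  have h2 := Submodule.mem_map_of_mem (f := E.symm.toLinearMap) h1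
  rw [Submodule.map_span] at h2
  rw [Finset.coe_image]
  have e3 : E.symm.toLinearMap ((n : ℤ) • E x) = (n : ℤ) • x := by
    rw [map_zsmul]
    congr 1
    exact E.symm_apply_apply x
  rw [e3] at h2
  exact h2

/-- **finitely generated cohomology over `R' = R_(q)`** -/
theorem FracQ.fgCoh_restrictScalars (hf : FracQ f q) (K : CM R') (hK : ∀ i, Module.Finite R' (K.homology i)) :
    K353.FgCoh q (((ModuleCat.restrictScalars.{u} f).mapHomologicalComplex (ComplexShape.up ℤ)).obj K) := by
  have ι : ∀ i, (((ModuleCat.restrictScalars.{u} f).mapHomologicalComplex (ComplexShape.up ℤ)).obj K).homology i ≅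
      (ModuleCat.restrictScalars.{u} f).obj (K.homology i) := fun i =>
    (K.sc i).mapHomologyIso (ModuleCat.restrictScalars.{u} f)
  exact hf.fgCoh_of_linearEquiv _ (fun i => K.homology i) (fun i => (ι i).toLinearEquiv.toAddEquiv)
    (fun i r x => (ι i).toLinearEquiv.map_smul r x)

end Fg

end Groth.Agent.ResProp.EF.K929
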