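import Groth.Agent.Cohder.SubcomplexRes
import Groth.Agent.ResProp.EF.F5.Iface
import Groth.Agent.ResProp.EF.K294.Tor
import Groth.Agent.ResProp.EF.K380.DCF

/-!
# Bounded complexes with finitely generated cohomology are represented by complexes with finitely generated terms

`FG u`: objects `Z` with `u Z` finitely generated; a Serre class for `u` exact, `A` Noetherian.
`LocFG u`: every epimorphism onto an object of `FG u` is covered by a subobject in `FG u`.
`exists_fg_sub`: a bounded above complex with cohomology in `FG u` contains a quasi-isomorphic subcomplex with terms in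
`FG u`.  `torGE_of_flat`: flat terms in degrees `≥ a`, bounded above ⇒ `TorGE a`.
`PerfT.exists_fg_sub` : the complexes `T` of F5 (`us T` perfect).
-/

set_option autoImplicit false
set_option backward.defeqAttrib.useBackward true
set_option backward.isDefEq.respectTransparency false

universe w v u

open CategoryTheory CategoryTheory.Limits MonoidalCategory HomologicalComplex

namespace Groth.Agent.ResProp.EF.K929

open Groth.Agent.ResProp.EF.K294 Groth.Agent.PerfB.RingKFlat Groth.Agent.ResProp.EF.F5

variable {A : Type u} [CommRing A]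

section Tor

/-- the tensor product is concentrated in degrees `≥ a + b` -/
lemma isZero_tens_X {K L : CM A} {a b : ℤ} (hK : ∀ i < a, IsZero (K.X i)) (hL : ∀ i < b, IsZero (L.X i)) (n : ℤ)
    (hn : n < a + b) : IsZero ((tens K L).X n) := by
  rw [IsZero.iff_id_eq_zero]
  refine mapBifunctor.hom_ext (fun p q h => ?_)
  refine IsZero.eq_of_src ?_ _ _
  by_cases h1 : p < a
  · exact (tensorRight (L.X q)).map_isZero (hK p h1)
  · have h2 : p + q = n := h
    exact (tensorLeft (K.X p)).map_isZero (hL q (by omega))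

/-- **bounded above complexes of flat modules in degrees `≥ a` have Tor amplitude `≥ a`** -/
theorem torGE_of_flat (Q : CM A) (a b : ℤ) [Q.IsStrictlyGE a] [Q.IsStrictlyLE b]
    (hQ : ∀ n : ℤ, Module.Flat A (Q.X n)) : TorGE a Q := by
  intro L hL i hi
  have h1 : L.IsGE 0 := (CochainComplex.isGE_iff L 0).2 fun i hi => hL.exact i hi
  have h2 : QuasiIso (L.πTruncGE 0) := inferInstance
  have h3 : QuasiIso (((TR A).map₂CochainComplex.obj Q).map (L.πTruncGE 0)) :=
    Groth.Agent.Dcoh.KFlatFlip.quasiIso_of_kfl_flip (T := TR A)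
      (Groth.Agent.Htor.H240.FlatTens.kfl_flip Q hQ (b := b)
        (fun i hi => (CochainComplex.isStrictlyLE_iff Q b).1 inferInstance i hi)) _
  have h4 : IsZero ((tens Q (L.truncGE 0)).X i) :=
    isZero_tens_X (a := a) (b := 0) (fun i hi => (CochainComplex.isStrictlyGE_iff Q a).1 inferInstance i hi)
      (fun i hi => (CochainComplex.isStrictlyGE_iff (L.truncGE 0) 0).1 inferInstance i hi) i (by omega)
  exact (exactAt_iff_of_quasiIsoAt (((TR A).map₂CochainComplex.obj Q).map (L.πTruncGE 0)) i).2
    (ShortComplex.exact_of_isZero_X₂ _ h4)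

end Tor

section FG

variable {C : Type v} [Category.{w} C] [Abelian C] (F : C ⥤ ModuleCat.{u} A)

/-- objects with finitely generated module of sections -/
abbrev FG : ObjectProperty C := (Groth.Agent.ResProp.EF.K380.DCF.fg.{u} A).inverseImage F

/-- every epimorphism onto an object of `FG F` is covered by a subobject in `FG F` -/
def LocFG : Prop := ∀ (X Y : C) (π : X ⟶ Y), Epi π → Module.Finite A (F.obj Y) →
  ∃ (X' : C) (i : X' ⟶ X), Mono i ∧ Module.Finite A (F.obj X') ∧ Epi (i ≫ π)

variable [F.Additive] [PreservesFiniteLimits F] [PreservesFiniteColimits F]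

/-- `F` commutes with the cohomology of complexes -/
noncomputable def hIso (T : CochainComplex C ℤ) (i : ℤ) :
    ((F.mapHomologicalComplex (ComplexShape.up ℤ)).obj T).homology i ≅ F.obj (T.homology i) :=
  (T.sc i).mapHomologyIso F

/-- a bounded above complex with finitely generated cohomology contains a quasi-isomorphic subcomplex with finitely
generated terms -/
theorem exists_fg_sub [IsNoetherianRing A] (hF : LocFG F) (T : CochainComplex C ℤ) (b : ℤ) [T.IsStrictlyLE b]
    (hT : ∀ i, Module.Finite A (((F.mapHomologicalComplex (ComplexShape.up ℤ)).obj T).homology i)) :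
    ∃ (T₀ : CochainComplex C ℤ) (j : T₀ ⟶ T), T₀.IsStrictlyLE b ∧ (∀ i, Mono (j.f i)) ∧
      (∀ i, Module.Finite A (F.obj (T₀.X i))) ∧ QuasiIso j := by
  refine Groth.Agent.Cohder.SubcomplexRes.exists_quasiIso_of_isSerreClass (FG F) hF T b fun i => ?_
  change Groth.Agent.ResProp.EF.K380.DCF.fg.{u} A (F.obj (T.homology i))
  exact (Groth.Agent.ResProp.EF.K380.DCF.fg.{u} A).prop_of_iso (hIso F T i) (hT i)

omit [F.Additive] [PreservesFiniteLimits F] [PreservesFiniteColimits F] in
lemma isStrictlyGE_of_mono {T₀ T : CochainComplex C ℤ} (j : T₀ ⟶ T) (hj : ∀ i, Mono (j.f i)) (a : ℤ)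
    [T.IsStrictlyGE a] : T₀.IsStrictlyGE a := by
  rw [CochainComplex.isStrictlyGE_iff]
  intro i hi
  have := hj i
  exact IsZero.of_mono (j.f i) ((CochainComplex.isStrictlyGE_iff T a).1 inferInstance i hi)

end FG

section Chart

variable {C : Type v} [Category.{w} C] [Abelian C] (X : Chart A C)

instance preservesFiniteColimits_us : PreservesFiniteColimits X.us := by
  have : PreservesColimitsOfSize.{0, 0} X.us := X.adj.leftAdjoint_preservesColimits
  infer_instance

/-- complexes with f.g. terms, strictly bounded, of Tor amplitude `≥ a` -/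
structure FgT (T : CochainComplex C ℤ) : Prop where
  bdd : Bdd T
  fin : ∀ i : ℤ, Module.Finite A (X.us.obj (T.X i))
  tor : ∃ a : ℤ, TorGE a (X.usC.obj T)

variable {X}

/-- the cohomology of a perfect complex is finitely generated -/
lemma Perf.finite_homology [IsNoetherianRing A] {Q : CM A} (hQ : Perf Q) (i : ℤ) : Module.Finite A (Q.homology i) := by
  have h1 : Groth.Agent.ResProp.EF.K380.DCF.fg.{u} A (Q.X i) := hQ.fin i
  have h2 : Groth.Agent.ResProp.EF.K380.DCF.fg.{u} A (Q.cycles i) := ObjectProperty.prop_of_mono _ (Q.iCycles i) h1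
  exact ObjectProperty.prop_of_epi (Groth.Agent.ResProp.EF.K380.DCF.fg.{u} A) (Q.homologyπ i) h2

lemma PerfT.finite_homology [IsNoetherianRing A] {T : CochainComplex C ℤ} (hT : PerfT X T) (i : ℤ) :
    Module.Finite A ((X.usC.obj T).homology i) := by
  obtain ⟨-, Q, l, hQ, hl⟩ := hT
  exact (Groth.Agent.ResProp.EF.K380.DCF.fg.{u} A).prop_of_iso (asIso (homologyMap l i)) (Perf.finite_homology hQ i)

lemma Perf.torGE {Q : CM A} (hQ : Perf Q) : ∃ a : ℤ, TorGE a Q := by
  obtain ⟨a, b, ha, hb⟩ := hQ.bdd
  refine ⟨a, torGE_of_flat Q a b fun n => ?_⟩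
  have := hQ.proj n
  infer_instance

lemma PerfT.torGE {T : CochainComplex C ℤ} (hT : PerfT X T) : ∃ a : ℤ, TorGE a (X.usC.obj T) := by
  obtain ⟨-, Q, l, hQ, hl⟩ := hT
  obtain ⟨a, ha⟩ := Perf.torGE hQ
  exact ⟨a, (torGE_iff_of_quasiIso l).1 ha⟩

/-- **`T` in TPerf**: a bounded complex `T` with `us T` perfect contains a quasi-isomorphic bounded subcomplex with
finitely generated terms -/
theorem PerfT.exists_fgT [IsNoetherianRing A] (hF : LocFG X.us) {T : CochainComplex C ℤ} (hT : PerfT X T) :
    ∃ (T₀ : CochainComplex C ℤ) (j : T₀ ⟶ T), (∀ i, Mono (j.f i)) ∧ QuasiIso j ∧ FgT X T₀ := by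
  obtain ⟨a, b, ha, hb⟩ := hT.1
  obtain ⟨T₀, j, h1, h2, h3, h4⟩ := exists_fg_sub X.us hF T b (PerfT.finite_homology hT)
  obtain ⟨c, hc⟩ := PerfT.torGE hT
  have h5 : QuasiIso (X.usC.map j) := inferInstance
  exact ⟨T₀, j, h2, h4, ⟨a, b, isStrictlyGE_of_mono j h2 a, h1⟩, h3, c, (torGE_iff_of_quasiIso (X.usC.map j)).2 hc⟩

end Chart

end Groth.Agent.ResProp.EF.K929
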