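import Groth.Agent.ResProp.EF.K741.ComodAb
import Groth.Agent.ResProp.EF.K276.OfPM
import Groth.Agent.ResProp.EF.K929.TPerf

/-!
# Finitely generated subobjects in `Comod A`, `A⟨0⟩` Noetherian

`exists_fg_sub_comod`: finitely many elements of `v^* M` lie in `v^* N`, `N ⊂ M` with `v^* N` finitely generated.
`locFG_vst` : `LocFG (vst A)`.
`DirFG F` : the abstract form of the first statement.
-/

set_option autoImplicit false
set_option linter.dupNamespace false
set_option linter.style.haveILetI false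

open CategoryTheory CategoryTheory.Limits Opposite

namespace Groth.Agent.ResProp.EF.K929

open EF56 K784.BC K784.PM K741.RP

universe w v u

section Abs

variable {R : Type u} [CommRing R] {C : Type v} [Category.{w} C] (F : C ⥤ ModuleCat.{u} R)

/-- every finite subset of `F M` lies in `F N`, `N ⟶ M` mono, `F N` finitely generated -/
def DirFG : Prop := ∀ (M : C) (s : Finset (F.obj M)), ∃ (N : C) (i : N ⟶ M), Mono i ∧ Module.Finite R (F.obj N) ∧
  ∀ y ∈ s, y ∈ LinearMap.range (F.map i).hom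

theorem DirFG.locFG [F.PreservesEpimorphisms] [F.Faithful] (h : DirFG F) : LocFG F := by
  classical
  intro X Y π hπ hY
  have h1 : Function.Surjective (F.map π).hom := (ModuleCat.epi_iff_surjective _).1 inferInstance
  obtain ⟨s, hs⟩ := hY
  choose g hg using h1
  obtain ⟨X', i, hi, hX', h2⟩ := h X (s.image g)
  refine ⟨X', i, hi, hX', ?_⟩
  have h3 : Epi (F.map (i ≫ π)) := by
    rw [ModuleCat.epi_iff_surjective, ← LinearMap.range_eq_top, eq_top_iff, ← hs, Submodule.span_le]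
    intro y hy
    obtain ⟨x, hx⟩ := h2 (g y) (Finset.mem_image_of_mem g hy)
    refine ⟨x, ?_⟩
    rw [F.map_comp]
    change (F.map π).hom ((F.map i).hom x) = y
    rw [hx, hg]
  exact F.epi_of_epi_map h3

end Abs

section Comod

variable {A : NFᵒᵖ ⥤ CommRingCat.{u}}

/-- finitely many elements lie in a finitely generated subcomodule (language of `PM`) -/
theorem exists_fg_sub_pm (hA : GR A) [IsNoetherianRing (A.obj (op ⟨0⟩))] {M : PM.{u} A} (hM : M.Cart) {l : ℕ}
    (y : Fin l → M.obj ⟨0⟩) : ∃ N : Submodule (A.obj (op ⟨0⟩)) (M.obj ⟨0⟩),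
      (hA.pd.subN (G := M) N).Cart ∧ Module.Finite (A.obj (op ⟨0⟩)) ((hA.pd.subN (G := M) N).obj ⟨0⟩) ∧
      ∀ k, ∃ e, hA.pd.incl (G := M) N ⟨0⟩ e = y k := by
  let D := hA.pd
  have h1 : ∀ k, M.map (D.π ⟨0⟩) (y k) ∈ Submodule.span (A.obj (op (D.w ⟨0⟩)))
      (M.map (D.b ⟨0⟩) '' ((⊤ : Submodule (A.obj (op ⟨0⟩)) (M.obj ⟨0⟩)) : Set (M.obj ⟨0⟩))) := by
    intro k
    rw [Submodule.top_coe, Set.image_univ, (hM (D.b ⟨0⟩)).span_range]
    exact Submodule.mem_top
  obtain ⟨N, -, hN, h2⟩ := exists_fg_of_mem_span_family (M.map (D.b ⟨0⟩)) ⊤ _ h1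
  refine ⟨N, ?_, ?_, fun k => ?_⟩
  · exact K741.cart_of_pt _ fun a i => D.subN_flatCart N hM (pt a i) (K741.ff_pt hA a i).fl
  · haveI : Module.Finite (A.obj (op ⟨0⟩)) N := Module.Finite.iff_fg.2 hN
    haveI : IsNoetherian (A.obj (op ⟨0⟩)) N := isNoetherian_of_isNoetherianRing_of_finite _ _
    have hle : ∀ e : (D.subN (G := M) N).obj ⟨0⟩, D.incl N ⟨0⟩ e ∈ N := fun e => D.range_incl_le N ⟨e, rfl⟩
    exact Module.Finite.of_injective ((D.incl N ⟨0⟩).codRestrict N hle) fun a b hab =>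
      D.incl_injective N ⟨0⟩ (show (((D.incl N ⟨0⟩).codRestrict N hle a : N) : M.obj ⟨0⟩) = _ from
        congrArg (fun v : N => (v : M.obj ⟨0⟩)) hab)
  · exact (D.mem_range_incl (G := M) N).2 (h2 k)

theorem dirFG_vst [hA : Fact (GR A)] [IsNoetherianRing (A.obj (op ⟨0⟩))] : DirFG (vst A) := by
  intro M s
  let e := s.equivFin
  obtain ⟨N, hN, hfin, hy⟩ := exists_fg_sub_pm hA.out (M := toPM M.obj) M.property (l := s.card)
    (fun k => show (toPM M.obj).obj ⟨0⟩ from (e.symm k).1)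
  let E : Comod A := ⟨K276.ofPM (hA.out.pd.subN (G := toPM M.obj) N), hN⟩
  let i : E ⟶ M := ObjectProperty.homMk (K276.homMk (fun a => hA.out.pd.incl (G := toPM M.obj) N a)
    (fun a b φ m => rfl))
  have hi : Mono i := by
    have : Mono ((vst A).map i) := (ModuleCat.mono_iff_injective _).2 (hA.out.pd.incl_injective (G := toPM M.obj) N ⟨0⟩)
    exact (vst A).mono_of_mono_map this
  refine ⟨E, i, hi, hfin, fun y hys => ?_⟩
  obtain ⟨x, hx⟩ := hy (e ⟨y, hys⟩)
  exact ⟨x, hx.trans (congrArg Subtype.val (e.symm_apply_apply ⟨y, hys⟩))⟩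

/-- **`LocFG (vst A)`** -/
theorem locFG_vst [hA : Fact (GR A)] [IsNoetherianRing (A.obj (op ⟨0⟩))] : LocFG (vst A) :=
  dirFG_vst.locFG

end Comod

end Groth.Agent.ResProp.EF.K929
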