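import Groth.Agent.ResProp.EF.K353.Defs
import Groth.Agent.ResProp.EF.K894.C4
import Groth.Agent.ResProp.EF.K935.Perf

/-!
# Global assembly: hits at all points ⇒ `X.Hit`

`hit_of_hits` : if every class of `H^0(us Y)`, `Y` bounded, is hit by some bounded `T` with a lower Tor bound, then `X.Hit`.
`hit_of_out`  : it is enough to have this with values in all residue fields (`K353.Out`).
-/

set_option autoImplicit false

universe w v u

open CategoryTheory CategoryTheory.Limits HomologicalComplex CochainComplex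

attribute [local instance] HasDerivedCategory.standard

namespace Groth.Agent.ResProp.EF.K929

open Groth.Agent.ResProp.EF.K294 Groth.Agent.ResProp.EF.K894 Groth.Agent.ResProp.EF.K935
open Groth.Agent.PerfB.RingKFlat

variable {A : Type u} [CommRing A] {C : Type v} [Category.{w} C] [Abelian C] {X : Chart A C}

/-- representatives of cohomology classes -/
lemma exists_cocycle (K : CM A) (i : ℤ) (y : K.homology i) : ∃ z : K.cycles i, (K.homologyπ i).hom z = y :=
  (ModuleCat.epi_iff_surjective (K.homologyπ i)).1 inferInstance y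

lemma d_iCycles_apply (K : CM A) (i j : ℤ) (z : K.cycles i) : (K.d i j).hom ((K.iCycles i).hom z) = 0 := by
  have h := congrArg (fun a => a.hom z) (K.iCycles_d i j)
  exact h

/-- `us Z`, as a class of `H^0(us Z[0])`; it comes from one cocycle only -/
theorem exists_class (X : Chart A C) (Z : C) (z : X.us.obj Z) :
    ∃ y : (X.usC.obj ((single C (ComplexShape.up ℤ) 0).obj Z)).homology 0,
      ∀ c : (X.usC.obj ((single C (ComplexShape.up ℤ) 0).obj Z)).cycles 0,
        ((X.usC.obj ((single C (ComplexShape.up ℤ) 0).obj Z)).homologyπ 0).hom c = y →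
        (X.us.map (singleObjXSelf (ComplexShape.up ℤ) 0 Z).hom).hom
          (((X.usC.obj ((single C (ComplexShape.up ℤ) 0).obj Z)).iCycles 0).hom c) = z := by
  set K := X.usC.obj ((single C (ComplexShape.up ℤ) 0).obj Z) with hK
  have hd : ∀ i j, K.d i j = 0 := fun i j => by
    change X.us.map (((single C (ComplexShape.up ℤ) 0).obj Z).d i j) = 0
    rw [single_obj_d, X.us.map_zero]
  have h1 : IsIso (K.iCycles 0) := K.isIso_iCycles 0 1 (by simp) (hd 0 1)
  have h2 : IsIso (K.homologyπ 0) := K.isIso_homologyπ (-1) 0 (by simp) (hd (-1) 0)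
  let e : K.X 0 ≅ X.us.obj Z := X.us.mapIso (singleObjXSelf (ComplexShape.up ℤ) 0 Z)
  let f : K.cycles 0 ≅ K.homology 0 := asIso (K.homologyπ 0)
  let i : K.cycles 0 ≅ K.X 0 := asIso (K.iCycles 0)
  refine ⟨(e.inv ≫ i.inv ≫ f.hom).hom z, fun c hc => ?_⟩
  have h3 : (f.inv ≫ i.hom ≫ e.hom).hom (f.hom.hom c) = z := by
    have h4 : f.hom.hom c = (e.inv ≫ i.inv ≫ f.hom).hom z := hc
    rw [h4, ← ModuleCat.comp_apply]
    simp
  have h5 : (f.inv ≫ i.hom ≫ e.hom).hom (f.hom.hom c) = (i.hom ≫ e.hom).hom c := by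
    rw [← ModuleCat.comp_apply]
    simp
  rw [← h3, h5]
  rfl

/-- classes of `H^0(us Y)`, `Y` bounded, are hit ⇒ `X.Hit` -/
theorem hit_of_hits (H : Hits (K10.TTor X) (BddP C) (X.usC ⋙ hf A 0)) : X.Hit := by
  intro Z z
  obtain ⟨y, hy⟩ := exists_class X Z z
  have hb : BddP C ((single C (ComplexShape.up ℤ) 0).obj Z) := ⟨0, 0, inferInstance, inferInstance⟩
  obtain ⟨T, -, hT, g, t, ht⟩ := H _ hb y
  obtain ⟨a, ha⟩ := (K10.tTor_Q_iff X T).1 hT
  obtain ⟨c, hc⟩ := exists_cocycle (X.usC.obj T) 0 t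
  refine ⟨a, T, ha, ⟨⟨g.f 0 ≫ (singleObjXSelf (ComplexShape.up ℤ) 0 Z).hom, ((X.usC.obj T).iCycles 0).hom c, ?_,
    d_iCycles_apply _ 0 1 c, ?_⟩⟩⟩
  · rw [← g.comm_assoc, single_obj_d, zero_comp, comp_zero]
  · rw [X.us.map_comp]
    have h1 := comp_eq_apply (homologyπ_naturality (X.usC.map g) 0) c
    have h2 := comp_eq_apply (cyclesMap_i (X.usC.map g) 0) c
    have h3 := hy ((cyclesMap (X.usC.map g) 0).hom c) (by
      rw [← h1, hc]
      exact ht)
    rw [h2] at h3
    exact h3

/-- **global assembly**: hits with values in all residue fields ⇒ `X.Hit` -/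
theorem hit_of_out [IsNoetherianRing A] (H : ∀ (q : Ideal A) [q.IsPrime], ∃ (L : CM A)
    (ε : L ⟶ (single (ModuleCat.{u} A) (ComplexShape.up ℤ) 0).obj (ModuleCat.of A q.ResidueField)),
      IsTest L ∧ QuasiIso ε ∧ ∀ j : ℤ, K353.Out X.us L j) : X.Hit := by
  have key : HL (goodP (K10.TTor X) (BddP C)) (wP X (BddP C)) := by
    refine HL.self _ fun q _ => ?_
    obtain ⟨L, ε, hL, hε, hO⟩ := H q
    have h0 := hL.le
    have h1 : HL (goodP (K10.TTor X) (BddP C)) (wP X (BddP C) ⋙ tr L) := fun j =>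
      LL_of_hits (h := X.usC ⋙ tr L ⋙ hf A j) closed_bdd.toConeClosed (fun f Hf => hinv X L j f Hf) (by
        intro Y hY y
        obtain ⟨T, g, t, a, hT, ha, -, ht⟩ := hO j Y hY y
        exact ⟨T, hT, (K10.tTor_Q_iff X T).2 ⟨a, ha⟩, g, t, ht⟩)
    have h2 := HL.isStrictlyLE_res (ModuleCat.of A q.ResidueField)
    have h3 := K926.quasiIso_aug (ModuleCat.of A q.ResidueField)
    exact HL.resIndep _ 0 L _ 0 0 hL.flat (K926.flat_res_X _) ε (K926.aug _) h1
  exact hit_of_hits (hits_of_HL closed_bdd key 0)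

end Groth.Agent.ResProp.EF.K929
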